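import Mathlib
import Cfsg.Prelude.Def_Local
import Cfsg.Prelude.Def_CaseTheorems
import Cfsg.Agent.Lib.Cores
import Cfsg.Agent.SignalizersComponents.CompBasic
import Cfsg.Agent.SignalizersComponents.ComponentNormalize
import Cfsg.Agent.SignalizersComponents.Components

/-!
# S3325, piece PB23: tools (helper111)

* `inv_unique` : the involution of a cyclic group;
* `cyc_sylow` : a group with an involution `t` and a cyclic subgroup of odd index of `C(t)` containing `t` has cyclic
  Sylow 2-subgroups;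
* `nil_cyc`, `nil_central` : the index of `O(X)` is a power of 2;
* `comp_normal` : a component is normal if its centralizer is 2-nilpotent;
* `mem_of_mem_commutator` : a transfer lemma;
* `mem_two` : groups generated by a normal subgroup and two involutions.
-/

set_option autoImplicit false

namespace Cfsg.Agent.H111.OI.Two

open Subgroup Cfsg
open scoped commutatorElement

/-! ### cyclic subgroups -/

theorem inv_unique {X : Type*} [Group X] [Finite X] {b x y : X} (hx : x ∈ zpowers b) (hy : y ∈ zpowers b)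
    (xx : x * x = 1) (x1 : x ≠ 1) (yy : y * y = 1) (y1 : y ≠ 1) : x = y := by
  classical
  by_contra hne
  have : Fintype ↥(zpowers b) := Fintype.ofFinite _
  have h := IsCyclic.card_pow_eq_one_le (α := ↥(zpowers b)) (n := 2) (by norm_num)
  have h3 : ({1, ⟨x, hx⟩, ⟨y, hy⟩} : Finset ↥(zpowers b)) ⊆
      Finset.univ.filter (fun a : ↥(zpowers b) => a ^ 2 = 1) := by
    intro a ha
    simp only [Finset.mem_insert, Finset.mem_singleton] at ha
    rw [Finset.mem_filter]
    refine ⟨Finset.mem_univ _, ?_⟩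
    rcases ha with rfl | rfl | rfl
    · exact one_pow 2
    · exact Subtype.ext (by rw [SubgroupClass.coe_pow, pow_two]; exact xx)
    · exact Subtype.ext (by rw [SubgroupClass.coe_pow, pow_two]; exact yy)
  have h4 : ({1, ⟨x, hx⟩, ⟨y, hy⟩} : Finset ↥(zpowers b)).card = 3 := by
    rw [Finset.card_eq_three]
    refine ⟨1, ⟨x, hx⟩, ⟨y, hy⟩, ?_, ?_, ?_, rfl⟩
    · intro he
      exact x1 (congrArg Subtype.val he).symm
    · intro he
      exact y1 (congrArg Subtype.val he).symm
    · intro he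
      exact hne (congrArg Subtype.val he)
  have h5 := Finset.card_le_card h3
  rw [h4] at h5
  exact absurd (h5.trans h) (by norm_num)

theorem cyc_of_index {X : Type*} [Group X] [Finite X] {b : X} (h : Odd (zpowers b).index) (S : Sylow 2 X) :
    IsCyclic ↥(S : Subgroup X) := by
  have hf : Fact (Nat.Prime 2) := ⟨Nat.prime_two⟩
  obtain ⟨k, m, hm, hb⟩ := Nat.exists_eq_two_pow_mul_odd (orderOf_pos b).ne'
  have ho : orderOf (b ^ m) = 2 ^ k := by
    rw [orderOf_pow_of_dvd hm.pos.ne' (by rw [hb]; exact dvd_mul_left _ _), hb]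
    exact Nat.mul_div_cancel _ hm.pos
  have h1 : zpowers (b ^ m) ≤ zpowers b := by
    rw [zpowers_le]
    exact pow_mem (mem_zpowers b) m
  have h2 : (zpowers (b ^ m)).relIndex (zpowers b) = m := by
    have h3 := card_mul_index ((zpowers (b ^ m)).subgroupOf (zpowers b))
    rw [Nat.card_congr (subgroupOfEquivOfLe h1).toEquiv, Nat.card_zpowers, Nat.card_zpowers, ho, hb] at h3
    exact Nat.eq_of_mul_eq_mul_left (by positivity) h3
  have h4 : Odd (zpowers (b ^ m)).index := by
    rw [← relIndex_mul_index h1, h2]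
    exact hm.mul h
  have hp : IsPGroup 2 ↥(zpowers (b ^ m)) := IsPGroup.of_card (n := k) (by rw [Nat.card_zpowers, ho])
  have hn : ¬ 2 ∣ (zpowers (b ^ m)).index := fun hd => (Nat.not_even_iff_odd.2 h4) (even_iff_two_dvd.2 hd)
  have e := Sylow.equiv S (hp.toSylow hn)
  have hc : IsCyclic ↥((hp.toSylow hn : Sylow 2 X) : Subgroup X) := by
    show IsCyclic ↥(zpowers (b ^ m))
    infer_instance
  exact isCyclic_of_surjective e.symm e.symm.surjective

/-- **Cyclic Sylow 2-subgroups.** -/
theorem cyc_sylow {X : Type*} [Group X] [Finite X] {t b : X} (t1 : t ≠ 1) (tt : t * t = 1) (htb : t ∈ zpowers b)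
    (hodd : Odd ((zpowers b).relIndex (centralizer {t}))) (S : Sylow 2 X) : IsCyclic ↥(S : Subgroup X) := by
  have hf : Fact (Nat.Prime 2) := ⟨Nat.prime_two⟩
  obtain ⟨k, m, hm, hb⟩ := Nat.exists_eq_two_pow_mul_odd (orderOf_pos b).ne'
  have ho : orderOf (b ^ m) = 2 ^ k := by
    rw [orderOf_pow_of_dvd hm.pos.ne' (by rw [hb]; exact dvd_mul_left _ _), hb]
    exact Nat.mul_div_cancel _ hm.pos
  set T := zpowers (b ^ m) with hT
  have h1 : T ≤ zpowers b := by
    rw [hT, zpowers_le]
    exact pow_mem (mem_zpowers b) m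
  have h2 : T.relIndex (zpowers b) = m := by
    have h3 := card_mul_index (T.subgroupOf (zpowers b))
    rw [Nat.card_congr (subgroupOfEquivOfLe h1).toEquiv, hT, Nat.card_zpowers, Nat.card_zpowers, ho, hb] at h3
    exact Nat.eq_of_mul_eq_mul_left (by positivity) h3
  have hbC : zpowers b ≤ centralizer {t} := by
    obtain ⟨i, rfl⟩ := mem_zpowers_iff.1 htb
    rw [zpowers_le, mem_centralizer_singleton_iff]
    exact (Commute.refl b).zpow_right i
  have h4 : Odd (T.relIndex (centralizer {t})) := by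
    rw [← relIndex_mul_relIndex T _ _ h1 hbC, h2]
    exact hm.mul hodd
  have htT : t ∈ T := by
    obtain ⟨i, hi⟩ := mem_zpowers_iff.1 htb
    have h5 : b ^ (2 * i) = 1 := by
      rw [mul_comm, zpow_mul, hi, zpow_two, tt]
    have h6 : (m : ℤ) ∣ i := by
      have h7 : (orderOf b : ℤ) ∣ 2 * i := orderOf_dvd_iff_zpow_eq_one.2 h5
      have h8 : (m : ℤ) ∣ 2 * i := (by
        rw [hb, Nat.cast_mul]
        exact dvd_mul_left _ _ : (m : ℤ) ∣ (orderOf b : ℤ)).trans h7
      have h9 : IsCoprime (m : ℤ) 2 := by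
        have : Nat.Coprime m 2 := (Nat.coprime_two_right).2 hm
        exact Nat.isCoprime_iff_coprime.2 this
      exact h9.dvd_of_dvd_mul_left h8
    obtain ⟨j, rfl⟩ := h6
    rw [← hi, hT]
    exact ⟨j, by
      show (b ^ m) ^ j = b ^ ((m : ℤ) * j)
      rw [← zpow_natCast, ← zpow_mul]⟩
  have hp : IsPGroup 2 ↥T := IsPGroup.of_card (n := k) (by rw [hT, Nat.card_zpowers, ho])
  obtain ⟨S', hS'⟩ := hp.exists_le_sylow
  have hTC : T ≤ centralizer {t} := h1.trans hbC
  have key : (S' : Subgroup X) = T := by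
    by_contra hne
    have hlt : T.subgroupOf (S' : Subgroup X) < ⊤ := by
      rw [lt_top_iff_ne_top]
      intro h
      rw [subgroupOf_eq_top] at h
      exact hne (le_antisymm h hS')
    have hnil : Group.IsNilpotent ↥(S' : Subgroup X) := S'.isPGroup'.isNilpotent
    have hN := Group.normalizerCondition_of_isNilpotent (G := ↥(S' : Subgroup X)) _ hlt
    obtain ⟨x, hx, hxT⟩ := SetLike.exists_of_lt hN
    have hxT' : (x : X) ∉ T := fun h => hxT (mem_subgroupOf.2 h)
    have hxn : (x : X) * t * (x : X)⁻¹ ∈ T := by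
      have h5 := (mem_normalizer_iff.1 hx ⟨t, hS' htT⟩).1 (mem_subgroupOf.2 htT)
      exact mem_subgroupOf.1 h5
    have hxt : (x : X) * t * (x : X)⁻¹ = t := by
      refine inv_unique (b := b ^ m) hxn htT ?_ ?_ tt t1
      · calc (x : X) * t * (x : X)⁻¹ * ((x : X) * t * (x : X)⁻¹) = (x : X) * (t * t) * (x : X)⁻¹ := by group
          _ = 1 := by rw [tt]; group
      · intro h5
        exact t1 (conj_eq_one_iff.1 h5)
    have hxC : (x : X) ∈ centralizer {t} := mem_centralizer_singleton_iff.2 (mul_inv_eq_iff_eq_mul.1 hxt)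
    have h2C : T ⊔ zpowers (x : X) ≤ centralizer {t} := sup_le hTC (by rw [zpowers_le]; exact hxC)
    have h2S : T ⊔ zpowers (x : X) ≤ (S' : Subgroup X) := sup_le hS' (by rw [zpowers_le]; exact x.2)
    have h6 : Odd (T.relIndex (T ⊔ zpowers (x : X))) := by
      have h7 := relIndex_mul_relIndex T _ _ le_sup_left h2C
      rw [← h7] at h4
      exact (Nat.odd_mul.1 h4).1
    have hp2 : IsPGroup 2 ↥(T ⊔ zpowers (x : X)) := S'.isPGroup'.to_le h2S
    obtain ⟨n, hn⟩ := hp2.exists_card_eq
    have h8 : T.relIndex (T ⊔ zpowers (x : X)) ∣ 2 ^ n := by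
      rw [← hn]
      exact index_dvd_card _
    obtain ⟨j, -, hj⟩ := (Nat.dvd_prime_pow Nat.prime_two).1 h8
    have hj0 : j = 0 := by
      by_contra hj0
      rw [hj] at h6
      exact (Nat.not_even_iff_odd.2 h6) ((Nat.even_pow).2 ⟨even_two, hj0⟩)
    rw [hj0, pow_zero, relIndex_eq_one] at hj
    exact hxT' (hj (mem_sup_right (mem_zpowers _)))
  have hc : IsCyclic ↥(S' : Subgroup X) := by
    rw [key, hT]
    infer_instance
  have e := Sylow.equiv S S'
  exact isCyclic_of_surjective e.symm e.symm.surjective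

/-! ### 2-nilpotent groups -/

theorem card_odd_core {X : Type*} [Group X] [Finite X] : Odd (Nat.card ↥(oddCore X)) :=
  Nat.coprime_two_right.1 (Lib.Cores.pPrimeCore_coprime (G := X) 2)

theorem nil_of {X : Type*} [Group X] [Finite X] {N : Subgroup X} (hN : N.Normal) (ho : Odd (Nat.card ↥N)) {k : ℕ}
    (hk : N.index = 2 ^ k) : ∃ k, (oddCore X).index = 2 ^ k := by
  have h1 : N ≤ oddCore X := Lib.Cores.le_pPrimeCore hN (Nat.coprime_two_right.2 ho)
  have h2 := index_dvd_of_le h1
  rw [hk] at h2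
  obtain ⟨j, -, hj⟩ := (Nat.dvd_prime_pow Nat.prime_two).1 h2
  exact ⟨j, hj⟩

theorem nil_cyc {X : Type*} [Group X] [Finite X] (h : ∀ S : Sylow 2 X, IsCyclic ↥(S : Subgroup X)) :
    ∃ k, (oddCore X).index = 2 ^ k := by
  have hf : Fact (Nat.Prime 2) := ⟨Nat.prime_two⟩
  obtain ⟨S⟩ : Nonempty (Sylow 2 X) := inferInstance
  by_cases h2 : 2 ∣ Nat.card X
  · have hle := (h S).normalizer_le_centralizer ((Nat.minFac_eq_two_iff _).2 h2)
    have hc := MonoidHom.ker_transferSylow_isComplement' S hle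
    have hn := MonoidHom.not_dvd_card_ker_transferSylow S hle
    obtain ⟨k, hk⟩ := S.isPGroup'.exists_card_eq
    refine nil_of (N := (MonoidHom.transferSylow S hle).ker) inferInstance ?_ (k := k) ?_
    · exact Nat.not_even_iff_odd.1 fun he => hn (even_iff_two_dvd.1 he)
    · rw [← hk, hc.symm.index_eq_card]
  · refine nil_of (N := (⊤ : Subgroup X)) inferInstance ?_ (k := 0) ?_
    · rw [card_top]
      exact Nat.not_even_iff_odd.1 fun he => h2 (even_iff_two_dvd.1 he)
    · rw [index_top, pow_zero]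

theorem nil_central {X : Type*} [Group X] [Finite X] {Z : Subgroup X} [Z.Normal] (hZ : Z ≤ center X) {j : ℕ}
    (hj : Nat.card ↥Z = 2 ^ j) (h : ∃ k, (oddCore (X ⧸ Z)).index = 2 ^ k) : ∃ k, (oddCore X).index = 2 ^ k := by
  obtain ⟨k, hk⟩ := h
  have hn0 : (oddCore (X ⧸ Z)).Normal := Lib.Cores.pPrimeCore_normal 2
  set N := (oddCore (X ⧸ Z)).comap (QuotientGroup.mk' Z) with hN
  have hNn : N.Normal := by rw [hN]; infer_instance
  have hi : N.index = 2 ^ k := by
    rw [hN, index_comap_of_surjective _ (QuotientGroup.mk'_surjective Z), hk]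
  have hZN : Z ≤ N := by
    intro x hx
    rw [hN, mem_comap]
    have : QuotientGroup.mk' Z x = 1 := (QuotientGroup.eq_one_iff x).2 hx
    rw [this]
    exact one_mem _
  have hcard : Nat.card ↥N = 2 ^ j * Nat.card ↥(oddCore (X ⧸ Z)) := by
    have h1 := card_mul_index N
    have h2 := card_mul_index (oddCore (X ⧸ Z))
    have h3 := card_mul_index Z
    rw [hi] at h1
    rw [hk] at h2
    have h4 : Z.index = Nat.card (X ⧸ Z) := rfl
    rw [h4, ← h2, hj] at h3
    have h5 : (0 : ℕ) < 2 ^ k := by positivity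
    apply Nat.eq_of_mul_eq_mul_right h5
    rw [h1, ← h3]
    ring
  have hZ1 : (Z.subgroupOf N).Normal := by infer_instance
  have hc1 : Nat.card ↥(Z.subgroupOf N) = 2 ^ j := by
    rw [Nat.card_congr (subgroupOfEquivOfLe hZN).toEquiv, hj]
  have hi1 : (Z.subgroupOf N).index = Nat.card ↥(oddCore (X ⧸ Z)) := by
    have h1 := card_mul_index (Z.subgroupOf N)
    rw [hc1, hcard] at h1
    exact Nat.eq_of_mul_eq_mul_left (by positivity) h1
  have hcop : (Nat.card ↥(Z.subgroupOf N)).Coprime (Z.subgroupOf N).index := by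
    rw [hc1, hi1]
    exact Nat.Coprime.pow_left j (Nat.coprime_two_left.2 card_odd_core)
  obtain ⟨H, hH⟩ := exists_left_complement'_of_coprime hcop
  have hHc : Nat.card ↥H = Nat.card ↥(oddCore (X ⧸ Z)) := by
    rw [← hi1, hH.index_eq_card]
  have hHn : H.Normal := by
    constructor
    intro a ha g
    obtain ⟨⟨b, z⟩, hbz⟩ := hH.2 g
    have hbz' : (b : ↥N) * (z : ↥N) = g := hbz
    have hza : (z : ↥N) * a = a * (z : ↥N) := by
      have h1 : ((z : ↥N) : X) ∈ center X := hZ (mem_subgroupOf.1 z.2)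
      exact Subtype.ext (mem_center_iff.1 h1 _).symm
    have h2 : g * a * g⁻¹ = (b : ↥N) * a * (b : ↥N)⁻¹ := by
      rw [← hbz']
      calc (b : ↥N) * z * a * ((b : ↥N) * z)⁻¹ = b * (z * a) * (z : ↥N)⁻¹ * (b : ↥N)⁻¹ := by group
        _ = b * (a * z) * (z : ↥N)⁻¹ * (b : ↥N)⁻¹ := by rw [hza]
        _ = (b : ↥N) * a * (b : ↥N)⁻¹ := by group
    rw [h2]
    exact mul_mem (mul_mem b.2 ha) (inv_mem b.2)
  have hHle : H ≤ oddCore ↥N := Lib.Cores.le_pPrimeCore hHn (by rw [hHc]; exact Nat.coprime_two_right.2 card_odd_core)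
  have hco : Nat.card ↥(oddCore ↥N) = Nat.card ↥(oddCore (X ⧸ Z)) := by
    refine Nat.dvd_antisymm ?_ ?_
    · have h1 : Nat.card ↥(oddCore ↥N) ∣ 2 ^ j * Nat.card ↥(oddCore (X ⧸ Z)) := by
        rw [← hcard]
        exact card_subgroup_dvd_card _
      exact (Nat.Coprime.pow_right j (Nat.coprime_two_right.2 card_odd_core)).dvd_of_dvd_mul_left h1
    · rw [← hHc]
      exact card_dvd_of_le hHle
  have hmap := Lib.Cores.map_subtype_pPrimeCore (G := X) 2 hNn
  have hcm : Nat.card ↥(N ⊓ oddCore X) = Nat.card ↥(oddCore (X ⧸ Z)) := by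
    rw [← hco]
    have h1 := Nat.card_congr ((oddCore ↥N).equivMapOfInjective N.subtype N.subtype_injective).toEquiv
    rw [h1]
    exact congrArg (fun K : Subgroup X => Nat.card ↥K) hmap.symm
  have hcn : (N ⊓ oddCore X).Normal := by
    have := Lib.Cores.pPrimeCore_normal (G := X) 2
    infer_instance
  refine nil_of hcn (by rw [hcm]; exact card_odd_core) (k := j + k) ?_
  have h1 := card_mul_index (N ⊓ oddCore X)
  have h2 := card_mul_index N
  rw [hcm] at h1
  rw [hcard, hi] at h2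
  have h3 : 0 < Nat.card ↥(oddCore (X ⧸ Z)) := Nat.card_pos
  apply Nat.eq_of_mul_eq_mul_left h3
  rw [h1, ← h2, pow_add]
  ring

/-! ### components -/

theorem perfect_hom {K P : Type*} [Group K] [Group P] [Finite P] (hK : Group.IsPerfect K) {k : ℕ}
    (hP : Nat.card P = 2 ^ k) (f : K →* P) (x : K) : f x = 1 := by
  have hf : Fact (Nat.Prime 2) := ⟨Nat.prime_two⟩
  have hp : IsPGroup 2 P := IsPGroup.of_card hP
  have hnil : Group.IsNilpotent P := hp.isNilpotent
  have hs : Group.IsSolvable P := inferInstance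
  obtain ⟨n, hn⟩ := (Group.isSolvable_def P).1 hs
  have h1 := map_derivedSeries_le_derivedSeries f n
  have h2 : derivedSeries K n = ⊤ := by
    clear h1 hn
    induction n with
    | zero => rfl
    | succ n ih => rw [derivedSeries_succ, ih]; exact hK.commutator_eq_top
  rw [h2, hn] at h1
  exact (mem_bot).1 (h1 ⟨x, mem_top x, rfl⟩)

/-- **A component with 2-nilpotent centralizer is normal.** -/
theorem comp_normal {G : Type*} [Group G] [Finite G] (hO : oddCore G = ⊥) {M : Subgroup G} (hM : IsComponent M)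
    (hR : ∃ k, (oddCore ↥(centralizer (M : Set G))).index = 2 ^ k) :
    M.Normal ∧ ∃ k, Nat.card ↥(centralizer (M : Set G)) = 2 ^ k := by
  obtain ⟨k, hk⟩ := hR
  have hnt : M ≠ ⊥ := by
    intro h
    have h1 := hM.2.2
    have h2 : Subsingleton ↥M := by rw [h]; infer_instance
    have h3 : Nontrivial (↥M ⧸ center ↥M) := h1.toNontrivial
    exact not_subsingleton (↥M ⧸ center ↥M) (Quotient.instSubsingletonQuotient _)
  have hn : M.Normal := by
    have key : ∀ g : G, M.map (MulAut.conj g).toMonoidHom = M := by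
      intro g
      by_contra hne
      have hc : IsComponent (M.map (MulAut.conj g).toMonoidHom) := by
        exact SignalizersComponents.Components.isComponent_conj g hM
      have h1 := SignalizersComponents.ComponentNormalize.component_comm_of_ne hc hM hne
      rw [commutator_eq_bot_iff_le_centralizer] at h1
      have h2 : ∀ x ∈ M.map (MulAut.conj g).toMonoidHom, ∃ hx : x ∈ centralizer (M : Set G),
          (⟨x, hx⟩ : ↥(centralizer (M : Set G))) ∈ oddCore ↥(centralizer (M : Set G)) := by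
        intro x hx
        refine ⟨h1 hx, ?_⟩
        have hnn : (oddCore ↥(centralizer (M : Set G))).Normal := Lib.Cores.pPrimeCore_normal 2
        have h3 := perfect_hom (P := ↥(centralizer (M : Set G)) ⧸ oddCore ↥(centralizer (M : Set G)))
          hc.2.1 (k := k) hk ((QuotientGroup.mk' _).comp (inclusion h1)) ⟨x, hx⟩
        exact (QuotientGroup.eq_one_iff _).1 h3
      have h3 : M.map (MulAut.conj g).toMonoidHom ≤
          (oddCore ↥(centralizer (M : Set G))).map (centralizer (M : Set G)).subtype := by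
        intro x hx
        obtain ⟨hx1, hx2⟩ := h2 x hx
        exact ⟨_, hx2, rfl⟩
      have h4 : Odd (Nat.card ↥(M.map (MulAut.conj g).toMonoidHom)) := by
        have h5 := card_dvd_of_le h3
        rw [← Nat.card_congr ((oddCore ↥(centralizer (M : Set G))).equivMapOfInjective _
          (subtype_injective _)).toEquiv] at h5
        exact card_odd_core.of_dvd_nat h5
      have h5 := SignalizersComponents.CompBasic.subnormal_coprime_le_pPrimeCore hc.1
        (Nat.coprime_two_right.2 h4)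
      rw [show pPrimeCore 2 G = ⊥ from hO, le_bot_iff, map_eq_bot_iff_of_injective _
        (MulAut.conj g).injective] at h5
      exact hnt h5
    constructor
    intro m hm g
    rw [← key g]
    exact ⟨m, hm, rfl⟩
  refine ⟨hn, k, ?_⟩
  have hcn : (centralizer (M : Set G)).Normal := inferInstance
  have h1 := Lib.Cores.map_subtype_pPrimeCore (G := G) 2 hcn
  rw [show pPrimeCore 2 G = ⊥ from hO, inf_bot_eq, map_eq_bot_iff_of_injective _ (subtype_injective _)] at h1
  rw [← hk, show oddCore ↥(centralizer (M : Set G)) = ⊥ from h1, index_bot]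

/-! ### a transfer lemma -/

/-- **A central involution of the commutator subgroup**, in a subgroup `D ⟨z⟩` of odd index, is in `D`. -/
theorem mem_of_mem_commutator {X : Type*} [Group X] [Finite X] {z : X} (hz : ∀ g, g * z = z * g) (zz : z * z = 1)
    (D : Subgroup X) (hD : Odd (D ⊔ zpowers z).index) (hc : z ∈ commutator X) : z ∈ D := by
  set H := D ⊔ zpowers z with hH
  have hzn : (zpowers z).Normal := by
    constructor
    intro x hx g
    obtain ⟨i, rfl⟩ := mem_zpowers_iff.1 hx
    have h1 : Commute g (z ^ i) := (show Commute g z from hz g).zpow_right i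
    rw [h1.eq, mul_inv_cancel_right]
    exact zpow_mem (mem_zpowers z) i
  have hzH : z ∈ H := mem_sup_right (mem_zpowers z)
  have hzi : z ^ H.index = z := by
    obtain ⟨k, hk⟩ := hD
    rw [hk, pow_succ, pow_mul, pow_two, zz, one_pow, one_mul]
  have hfin : H.FiniteIndex := inferInstance
  have h1 := MonoidHom.transfer_eq_pow (Abelianization.of (G := ↥H)) z (fun k g₀ _ => by
    have h : Commute g₀⁻¹ (z ^ k) := (show Commute g₀⁻¹ z from hz _).pow_right k
    rw [h.eq, mul_assoc, inv_mul_cancel, mul_one])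
  have h2 : (Abelianization.of (G := ↥H)).transfer z = 1 := Abelianization.commutator_subset_ker _ hc
  rw [h2] at h1
  have h3 : (⟨z, hzH⟩ : ↥H) ∈ commutator ↥H := by
    rw [← Abelianization.ker_of, MonoidHom.mem_ker]
    have h4 : (⟨z ^ H.index, MonoidHom.transfer_eq_pow_aux z (fun k g₀ _ => by
      have h : Commute g₀⁻¹ (z ^ k) := (show Commute g₀⁻¹ z from hz _).pow_right k
      rw [h.eq, mul_assoc, inv_mul_cancel, mul_one])⟩ : ↥H) = ⟨z, hzH⟩ := Subtype.ext hzi
    rw [← h4]
    exact h1.symm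
  have h4 : (commutator ↥H).map H.subtype ≤ D := by
    rw [commutator_def, map_commutator, ← MonoidHom.range_eq_map, range_subtype, commutator_le]
    intro a ha b hb
    obtain ⟨d, hd, x, hx, rfl⟩ := mem_sup_of_normal_right.1 ha
    obtain ⟨e, he, y, hy, rfl⟩ := mem_sup_of_normal_right.1 hb
    obtain ⟨i, rfl⟩ := mem_zpowers_iff.1 hx
    obtain ⟨j, rfl⟩ := mem_zpowers_iff.1 hy
    have hci : ∀ g : X, Commute g (z ^ i) := fun g => (show Commute g z from hz g).zpow_right i
    have hcj : ∀ g : X, Commute g (z ^ j) := fun g => (show Commute g z from hz g).zpow_right j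
    have h5 : ⁅d * z ^ i, e * z ^ j⁆ = ⁅d, e⁆ := by
      rw [commutatorElement_def, commutatorElement_def]
      have h6 : (d * z ^ i) * (e * z ^ j) = d * e * (z ^ i * z ^ j) := by
        calc (d * z ^ i) * (e * z ^ j) = d * (z ^ i * e) * z ^ j := by group
          _ = d * (e * z ^ i) * z ^ j := by rw [(hci e).eq]
          _ = _ := by group
      have h7 : (d * z ^ i)⁻¹ * (e * z ^ j)⁻¹ = (z ^ i * z ^ j)⁻¹ * (d⁻¹ * e⁻¹) := by
        have h8 : Commute d⁻¹ (z ^ j)⁻¹ := (hcj d⁻¹).inv_right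
        have h9 : Commute (z ^ i)⁻¹ (z ^ j)⁻¹ := ((hcj (z ^ i)).inv_left).inv_right
        calc (d * z ^ i)⁻¹ * (e * z ^ j)⁻¹ = (z ^ i)⁻¹ * (d⁻¹ * (z ^ j)⁻¹) * e⁻¹ := by group
          _ = (z ^ i)⁻¹ * ((z ^ j)⁻¹ * d⁻¹) * e⁻¹ := by rw [h8.eq]
          _ = ((z ^ i)⁻¹ * (z ^ j)⁻¹) * (d⁻¹ * e⁻¹) := by group
          _ = ((z ^ j)⁻¹ * (z ^ i)⁻¹) * (d⁻¹ * e⁻¹) := by rw [h9.eq]
          _ = _ := by group
      calc (d * z ^ i) * (e * z ^ j) * (d * z ^ i)⁻¹ * (e * z ^ j)⁻¹
          = ((d * z ^ i) * (e * z ^ j)) * ((d * z ^ i)⁻¹ * (e * z ^ j)⁻¹) := by group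
        _ = (d * e * (z ^ i * z ^ j)) * ((z ^ i * z ^ j)⁻¹ * (d⁻¹ * e⁻¹)) := by rw [h6, h7]
        _ = _ := by group
    rw [h5, commutatorElement_def]
    exact mul_mem (mul_mem (mul_mem hd he) (inv_mem hd)) (inv_mem he)
  exact h4 ⟨_, h3, rfl⟩

/-! ### groups generated by two involutions -/

theorem mem_closure_two {Y : Type*} [Group Y] {x y : Y} (xx : x * x = 1) (yy : y * y = 1) {g : Y}
    (hg : g ∈ closure ({x, y} : Set Y)) : ∃ k : ℤ, g = (x * y) ^ k ∨ g = (x * y) ^ k * x := by
  have hxi : x⁻¹ = x := inv_eq_of_mul_eq_one_left xx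
  have hyi : y⁻¹ = y := inv_eq_of_mul_eq_one_left yy
  have hx1 : x * (x * y) * x⁻¹ = (x * y)⁻¹ := by
    rw [mul_inv_rev, hxi, hyi, ← mul_assoc, xx, one_mul]
  have hxk : ∀ k : ℤ, x * (x * y) ^ k = (x * y) ^ (-k) * x := by
    intro k
    have h1 : x * (x * y) ^ k * x⁻¹ = (x * y) ^ (-k) := by
      rw [← conj_zpow, hx1, inv_zpow, zpow_neg]
    rw [← h1, inv_mul_cancel_right]
  induction hg using Subgroup.closure_induction with
  | mem g hg =>
    rcases hg with rfl | rfl
    · exact ⟨0, Or.inr (by rw [zpow_zero, one_mul])⟩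
    · refine ⟨-1, Or.inr ?_⟩
      have h1 := hxk 1
      rw [zpow_one, ← mul_assoc, xx, one_mul] at h1
      exact h1
  | one => exact ⟨0, Or.inl (by rw [zpow_zero])⟩
  | mul g h _ _ ihg ihh =>
    obtain ⟨k, hk | hk⟩ := ihg <;> obtain ⟨l, hl | hl⟩ := ihh <;> subst hk hl
    · exact ⟨k + l, Or.inl (by rw [zpow_add])⟩
    · exact ⟨k + l, Or.inr (by rw [zpow_add, mul_assoc])⟩
    · refine ⟨k + -l, Or.inr ?_⟩
      rw [mul_assoc, hxk, ← mul_assoc, ← zpow_add]
    · refine ⟨k + -l, Or.inl ?_⟩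
      rw [mul_assoc, ← mul_assoc x, hxk, mul_assoc _ x, xx, mul_one, ← zpow_add]
  | inv g _ ih =>
    obtain ⟨k, hk | hk⟩ := ih <;> subst hk
    · exact ⟨-k, Or.inl (by rw [zpow_neg])⟩
    · refine ⟨k, Or.inr ?_⟩
      rw [mul_inv_rev, hxi, ← zpow_neg, hxk, neg_neg]

theorem mem_two {Y : Type*} [Group Y] (N : Subgroup Y) [N.Normal] {x y : Y} (xx : x * x = 1) (yy : y * y = 1) {g : Y}
    (hg : g ∈ N ⊔ closure ({x, y} : Set Y)) :
    ∃ m ∈ N, ∃ k : ℤ, g = m * (x * y) ^ k ∨ g = m * ((x * y) ^ k * x) := by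
  obtain ⟨m, hm, w, hw, rfl⟩ := mem_sup_of_normal_left.1 hg
  obtain ⟨k, hk | hk⟩ := mem_closure_two xx yy hw
  · exact ⟨m, hm, k, Or.inl (by rw [hk])⟩
  · exact ⟨m, hm, k, Or.inr (by rw [hk])⟩

/-- the order of a group, by a homomorphism -/
theorem card_eq_map_mul {X Y : Type*} [Group X] [Group Y] [Finite X] (f : X →* Y) (H : Subgroup X) :
    Nat.card ↥H = Nat.card ↥(H.map f) * Nat.card ↥(H ⊓ f.ker) := by
  rw [← relIndex_ker, ← inf_relIndex_left, mul_comm]
  have h := card_mul_index ((H ⊓ f.ker).subgroupOf H)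
  rw [Nat.card_congr (subgroupOfEquivOfLe inf_le_left).toEquiv] at h
  exact h.symm

end Cfsg.Agent.H111.OI.Two
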