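import Mathlib
import Cfsg.Agent.H323.OI.Pieces
import Cfsg.Agent.H111.OI.Two

/-!
# S3325, piece PB23: the group `Γ` (helper111)

`Γ = {(v, w) ∈ C × O(U) : v acts on M as w}` and the proof that no element of `N_G(M)` maps `t` to `t ζ`.
-/

set_option autoImplicit false

namespace Cfsg.Agent.H111.OI.B23

open Cfsg Subgroup Cfsg.Agent.H323.OI Cfsg.Agent.H111.OI.Two

variable {F : Type} [Field F] {n : ℕ} {c : Fin n → F} {G : Type} [Group G]

/-! ### the isometry `-1` -/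

theorem negI_comm (g : OO c) : negI c * g = g * negI c := by
  apply Subtype.ext
  apply Units.ext
  show (-1 : Matrix (Fin n) (Fin n) F) * _ = _ * (-1 : Matrix (Fin n) (Fin n) F)
  rw [neg_one_mul, mul_neg_one]

theorem negI_mul : negI c * negI c = 1 := by
  apply Subtype.ext
  apply Units.ext
  show (-1 : Matrix (Fin n) (Fin n) F) * (-1 : Matrix (Fin n) (Fin n) F) = 1
  rw [neg_mul_neg, mul_one]

theorem negI_ne (h2 : (2 : F) ≠ 0) (s : Cfg c G) : negI c ≠ 1 := by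
  intro h
  have h1 : (-1 : Matrix (Fin n) (Fin n) F) = 1 := congrArg (fun g : OO c => mx g) h
  rcases Nat.eq_zero_or_pos n with h0 | h0
  · subst h0
    have h3 := s.dz
    rw [Matrix.det_isEmpty] at h3
    exact h2 (by rw [← one_add_one_eq_two]; nth_rewrite 1 [h3]; ring)
  · have h3 := congrFun (congrFun h1 ⟨0, h0⟩) ⟨0, h0⟩
    rw [Matrix.neg_apply, Matrix.one_apply_eq] at h3
    exact h2 (by rw [← one_add_one_eq_two]; nth_rewrite 1 [← h3]; ring)

theorem cj_val (g : OO c) (m : Om c) : ((cj g m : Om c) : OO c) = g * m * g⁻¹ := MulAut.conjNormal_apply g m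

theorem cj_self (x m : Om c) : cj (x : OO c) m = x * m * x⁻¹ := Subtype.ext (cj_val _ _)

theorem cj_mul (g h : OO c) (m : Om c) : cj (g * h) m = cj g (cj h m) :=
  Subtype.ext (by rw [cj_val, cj_val, cj_val]; group)

theorem cj_one (m : Om c) : cj (1 : OO c) m = m :=
  Subtype.ext (by rw [cj_val, one_mul, inv_one, mul_one])

theorem cj_inv_self (g : OO c) (m : Om c) : cj g (cj g⁻¹ m) = m := by
  rw [← cj_mul, mul_inv_cancel, cj_one]

section Gamma

variable (s : Cfg c G)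

/-- `Γ` -/
def Gam : Subgroup (G × OO c) where
  carrier := {p | p.1 * s.t = s.t * p.1 ∧ ∀ m, p.1 * s.ψ m * p.1⁻¹ = s.ψ (cj p.2 m)}
  one_mem' := ⟨by simp, fun m => by simp⟩
  mul_mem' := by
    rintro ⟨a, g⟩ ⟨b, h⟩ ⟨ha, hag⟩ ⟨hb, hbh⟩
    refine ⟨?_, fun m => ?_⟩
    · show a * b * s.t = s.t * (a * b)
      have h1 : a * s.t = s.t * a := ha
      have h2 : b * s.t = s.t * b := hb
      rw [mul_assoc, h2, ← mul_assoc, h1, mul_assoc]
    · show a * b * s.ψ m * (a * b)⁻¹ = s.ψ (cj (g * h) m)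
      have h1 : ∀ m, a * s.ψ m * a⁻¹ = s.ψ (cj g m) := hag
      have h2 : ∀ m, b * s.ψ m * b⁻¹ = s.ψ (cj h m) := hbh
      calc a * b * s.ψ m * (a * b)⁻¹ = a * (b * s.ψ m * b⁻¹) * a⁻¹ := by group
        _ = s.ψ (cj g (cj h m)) := by rw [h2, h1]
        _ = _ := by rw [cj_mul]
  inv_mem' := by
    rintro ⟨a, g⟩ ⟨ha, hag⟩
    have h1 : a * s.t = s.t * a := ha
    have h2 : ∀ m, a * s.ψ m * a⁻¹ = s.ψ (cj g m) := hag
    refine ⟨?_, fun m => ?_⟩
    · show a⁻¹ * s.t = s.t * a⁻¹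
      rw [inv_mul_eq_iff_eq_mul, ← mul_assoc, h1, mul_inv_cancel_right]
    · show a⁻¹ * s.ψ m * a⁻¹⁻¹ = s.ψ (cj g⁻¹ m)
      have h3 := h2 (cj g⁻¹ m)
      rw [cj_inv_self] at h3
      rw [← h3]
      group

theorem mem_Gam {p : G × OO c} : p ∈ Gam s ↔ p.1 * s.t = s.t * p.1 ∧ ∀ m, p.1 * s.ψ m * p.1⁻¹ = s.ψ (cj p.2 m) :=
  Iff.rfl

/-- `M` in `Γ` -/
def iM : Om c →* ↥(Gam s) where
  toFun m := ⟨(s.ψ m, (m : OO c)), (s.fix m).symm, fun m' => by
    show s.ψ m * s.ψ m' * (s.ψ m)⁻¹ = s.ψ (cj (m : OO c) m')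
    rw [cj_self, map_mul, map_mul, map_inv]⟩
  map_one' := Subtype.ext (Prod.ext (map_one _) rfl)
  map_mul' _ _ := Subtype.ext (Prod.ext (map_mul _ _ _) rfl)

/-- `Q` in `Γ` -/
def iQ : ↥s.Q →* ↥(Gam s) where
  toFun q := ⟨((q : G), 1), mem_centralizer_singleton_iff.1 q.2.1, fun m => by
    have h := mem_centralizer_iff.1 q.2.2 (s.ψ m) ⟨m, rfl⟩
    show (q : G) * s.ψ m * (q : G)⁻¹ = s.ψ (cj 1 m)
    rw [cj_one, ← h, mul_inv_cancel_right]⟩
  map_one' := Subtype.ext (Prod.ext rfl rfl)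
  map_mul' _ _ := Subtype.ext (Prod.ext rfl (mul_one 1).symm)

theorem iQ_inj : Function.Injective (iQ s) := fun _ _ h =>
  Subtype.ext (congrArg (fun p : ↥(Gam s) => (p : G × OO c).1) h)

/-- the projection to `O(U)` -/
def pr : ↥(Gam s) →* OO c := (MonoidHom.snd G (OO c)).comp (Gam s).subtype

/-- `(u, z)` -/
def ub : ↥(Gam s) := ⟨(s.u, s.z), s.ut, s.uψ⟩

/-- `(u', z')` -/
def ub' : ↥(Gam s) := ⟨(s.u', s.z'), s.ut', s.uψ'⟩

/-- `(1, -1)` -/
def zt : ↥(Gam s) := ⟨(1, negI c), by rw [one_mul, mul_one], fun m => by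
  have h : cj (negI c) m = m := Subtype.ext (by rw [cj_val, negI_comm, mul_inv_cancel_right])
  rw [h, one_mul, inv_one, mul_one]⟩

theorem ub_mul : ub s * ub s = 1 := Subtype.ext (Prod.ext s.uu s.zz)

theorem ub_mul' : ub' s * ub' s = 1 := Subtype.ext (Prod.ext s.uu' s.zz')

theorem zt_comm (g : ↥(Gam s)) : g * zt s = zt s * g :=
  Subtype.ext (Prod.ext (by
    show (g : G × OO c).1 * 1 = 1 * (g : G × OO c).1
    rw [one_mul, mul_one]) (negI_comm _).symm)

theorem zt_mul : zt s * zt s = 1 := Subtype.ext (Prod.ext (one_mul 1) negI_mul)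

instance normal_iM : (iM s).range.Normal := by
  constructor
  rintro _ ⟨m, rfl⟩ g
  refine ⟨cj (g : G × OO c).2 m, ?_⟩
  refine Subtype.ext (Prod.ext ?_ ?_)
  · exact (g.2.2 m).symm
  · exact cj_val _ _

/-- `M ⟨(u, z), (u', z')⟩` -/
def D : Subgroup ↥(Gam s) := (iM s).range ⊔ closure {ub s, ub' s}

theorem iM_mem (m : Om c) : iM s m ∈ D s := mem_sup_left ⟨m, rfl⟩

theorem ub_mem : ub s ∈ D s := mem_sup_right (subset_closure (Or.inl rfl))

theorem ub_mem' : ub' s ∈ D s := mem_sup_right (subset_closure (Or.inr rfl))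

theorem comm_eq (hc : s.c0 ∈ s.Q) :
    ub s * ub' s * (ub s)⁻¹ * (ub' s)⁻¹ = iQ s ⟨s.c0, hc⟩ * iM s s.h :=
  Subtype.ext (Prod.ext (by
    show s.u * s.u' * s.u⁻¹ * s.u'⁻¹ = s.c0 * s.ψ s.h
    unfold Cfg.c0
    rw [inv_mul_cancel_right]) (by
    show s.z * s.z' * s.z⁻¹ * s.z'⁻¹ = 1 * (s.h : OO c)
    rw [one_mul]
    rfl))

theorem c0_mem (hc : s.c0 ∈ s.Q) : iQ s ⟨s.c0, hc⟩ ∈ D s := by
  have h : iQ s ⟨s.c0, hc⟩ = ub s * ub' s * (ub s)⁻¹ * (ub' s)⁻¹ * (iM s s.h)⁻¹ := by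
    rw [comm_eq s hc, mul_inv_cancel_right]
  rw [h]
  exact mul_mem (mul_mem (mul_mem (mul_mem (ub_mem s) (ub_mem' s)) (inv_mem (ub_mem s))) (inv_mem (ub_mem' s)))
    (inv_mem (iM_mem s _))

/-- the first coordinates of `D` -/
theorem exists_fst {x : G} (hx : x ∈ s.M ⊔ closure {s.u, s.u'}) :
    ∃ p ∈ D s, (p : G × OO c).1 = x := by
  have h : s.M ⊔ closure {s.u, s.u'} ≤ (D s).map ((MonoidHom.fst G (OO c)).comp (Gam s).subtype) := by
    refine sup_le ?_ ?_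
    · rintro _ ⟨m, rfl⟩
      exact ⟨iM s m, iM_mem s m, rfl⟩
    · rw [closure_le]
      rintro _ (rfl | rfl)
      · exact ⟨ub s, ub_mem s, rfl⟩
      · exact ⟨ub' s, ub_mem' s, rfl⟩
  obtain ⟨p, hp, rfl⟩ := h hx
  exact ⟨p, hp, rfl⟩

/-! ### the index -/

include s in
theorem finite_Om [Finite G] : Finite (Om c) := Finite.of_injective s.ψ s.inj

include s in
theorem finite_OO [Finite G] (O : OmF c) : Finite (OO c) := by
  have h1 := finite_Om s
  have h2 : (Omega F (dq c)).FiniteIndex := ⟨by rw [O.idx]; norm_num⟩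
  have h3 : Finite (OO c ⧸ Omega F (dq c)) := inferInstance
  exact Nat.finite_of_card_ne_zero (by
    rw [card_eq_card_quotient_mul_card_subgroup (Omega F (dq c))]
    exact mul_ne_zero Nat.card_pos.ne' Nat.card_pos.ne')

theorem map_H (O : OmF c) (q : QF s) : (D s ⊔ zpowers (zt s)).map (pr s) = ⊤ := by
  rw [eq_top_iff]
  intro w _
  obtain ⟨x, hx, hxw⟩ := q.ind w
  obtain ⟨p, hp, hpx⟩ := exists_fst s hx
  have h1 : ∀ m : Om c, cj (pr s p) m = cj w m := fun m => s.inj (by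
    have h2 := p.2.2 m
    rw [hpx, hxw m] at h2
    exact h2.symm)
  have h2 : ∀ m ∈ Omega F (dq c), ((pr s p)⁻¹ * w) * m = m * ((pr s p)⁻¹ * w) := by
    intro m hm
    have h3 := congrArg (Subtype.val) (h1 ⟨m, hm⟩)
    rw [cj_val, cj_val] at h3
    have h4 : pr s p * m * (pr s p)⁻¹ = w * m * w⁻¹ := h3
    calc (pr s p)⁻¹ * w * m = (pr s p)⁻¹ * (w * m * w⁻¹) * w := by group
      _ = (pr s p)⁻¹ * (pr s p * m * (pr s p)⁻¹) * w := by rw [h4]
      _ = m * ((pr s p)⁻¹ * w) := by group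
  rcases O.cen _ h2 with h3 | h3
  · refine ⟨p, mem_sup_left hp, ?_⟩
    exact (inv_mul_eq_one.1 h3)
  · refine ⟨p * zt s, mul_mem (mem_sup_left hp) (mem_sup_right (mem_zpowers _)), ?_⟩
    rw [map_mul]
    show pr s p * negI c = w
    rw [← h3, mul_inv_cancel_left]

theorem ker_pr : (pr s).ker = (iQ s).range := by
  ext p
  rw [MonoidHom.mem_ker, MonoidHom.mem_range]
  constructor
  · intro h
    have h1 : (p : G × OO c).2 = 1 := h
    have hq : (p : G × OO c).1 ∈ s.Q := by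
      refine ⟨mem_centralizer_singleton_iff.2 p.2.1, mem_centralizer_iff.2 ?_⟩
      rintro _ ⟨m, rfl⟩
      have h2 := p.2.2 m
      rw [h1, cj_one, mul_inv_eq_iff_eq_mul] at h2
      exact h2.symm
    exact ⟨⟨_, hq⟩, Subtype.ext (Prod.ext rfl h1.symm)⟩
  · rintro ⟨q, rfl⟩
    rfl

/-- **The index of `M ⟨(u, z), (u', z')⟩ ⟨(1, -1)⟩` in `Γ` is odd.** -/
theorem odd_index [Finite G] (O : OmF c) (q : QF s) {A : Subgroup G} (hA : A ≤ s.Q) (hodd : Odd (A.relIndex s.Q))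
    (hAH : ∀ x : G, ∀ hx : x ∈ A, iQ s ⟨x, hA hx⟩ ∈ D s ⊔ zpowers (zt s)) :
    Odd (D s ⊔ zpowers (zt s)).index := by
  have hf1 := finite_OO s O
  have hf2 : Finite ↥(Gam s) := inferInstance
  set H := D s ⊔ zpowers (zt s) with hH
  have h1 := card_eq_map_mul (pr s) H
  have h2 := card_eq_map_mul (pr s) (⊤ : Subgroup ↥(Gam s))
  have h3 : (⊤ : Subgroup ↥(Gam s)).map (pr s) = ⊤ := by
    rw [eq_top_iff, ← map_H s O q]
    exact map_mono le_top
  rw [map_H s O q, card_top] at h1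
  rw [h3, card_top, card_top, top_inf_eq] at h2
  have h4 : Nat.card ↥(pr s).ker = Nat.card ↥s.Q := by
    rw [ker_pr]
    exact Nat.card_congr (MonoidHom.ofInjective (iQ_inj s)).symm.toEquiv
  have h5 : Nat.card ↥A ∣ Nat.card ↥(H ⊓ (pr s).ker) := by
    have h6 : ((iQ s).comp (inclusion hA)).range ≤ H ⊓ (pr s).ker := by
      rintro _ ⟨x, rfl⟩
      exact ⟨hAH x x.2, rfl⟩
    have h7 := card_dvd_of_le h6
    rwa [← Nat.card_congr (MonoidHom.ofInjective
      (f := (iQ s).comp (inclusion hA)) ((iQ_inj s).comp (inclusion_injective hA))).toEquiv] at h7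
  obtain ⟨r, hr⟩ := h5
  have h6 : Nat.card ↥s.Q = Nat.card ↥A * A.relIndex s.Q := by
    have h7 := card_mul_index (A.subgroupOf s.Q)
    rw [Nat.card_congr (subgroupOfEquivOfLe hA).toEquiv] at h7
    exact h7.symm
  have h7 := card_mul_index H
  rw [h1, hr, h2, h4, h6] at h7
  have h8 : r * H.index = A.relIndex s.Q := by
    have h9 : 0 < Nat.card (OO c) * Nat.card ↥A := Nat.mul_pos Nat.card_pos Nat.card_pos
    apply Nat.eq_of_mul_eq_mul_left h9
    calc Nat.card (OO c) * Nat.card ↥A * (r * H.index) = Nat.card (OO c) * (Nat.card ↥A * r) * H.index := by ring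
      _ = Nat.card (OO c) * (Nat.card ↥A * A.relIndex s.Q) := h7
      _ = _ := by ring
  rw [← h8] at hodd
  exact (Nat.odd_mul.1 hodd).2

/-- **`(1, -1) ∈ M ⟨(u, z), (u', z')⟩`** : `ζ` is a power of `c₀`. -/
theorem ze_of_mem (h2 : (2 : F) ≠ 0) (hn : Even n) (O : OmF c) (hc : s.c0 ∈ s.Q)
    (hz : negI c ∈ Omega F (dq c)) (h : zt s ∈ D s) : s.ψ ⟨negI c, hz⟩ ∈ zpowers s.c0 := by
  have hzz : s.z * s.z' ∉ Omega F (dq c) := by
    have h1 : s.z⁻¹ = s.z := inv_eq_of_mul_eq_one_left s.zz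
    rw [← h1]
    exact s.cos
  obtain ⟨_, ⟨m, rfl⟩, k, hk | hk⟩ := mem_two (iM s).range (ub_mul s) (ub_mul' s) h
  · have hO : negI c = (m : OO c) * (s.z * s.z') ^ k := by
      have h1 := congrArg (pr s) hk
      rw [map_mul, map_zpow, map_mul] at h1
      exact h1
    have hG : (1 : G) = s.ψ m * (s.u * s.u') ^ k := by
      have h1 := congrArg ((MonoidHom.fst G (OO c)).comp (Gam s).subtype) hk
      rw [map_mul, map_zpow, map_mul] at h1
      exact h1
    have hsq : (s.z * s.z') * (s.z * s.z') = (s.h : OO c) := by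
      show _ = s.z * s.z' * s.z⁻¹ * s.z'⁻¹
      rw [inv_eq_of_mul_eq_one_left s.zz, inv_eq_of_mul_eq_one_left s.zz', mul_assoc, mul_assoc, mul_assoc]
    have hev : Even k := by
      by_contra hodd
      rw [Int.not_even_iff_odd] at hodd
      obtain ⟨l, rfl⟩ := hodd
      have h1 : (s.z * s.z') ^ (2 * l + 1) ∈ Omega F (dq c) := by
        have h3 : (s.z * s.z') ^ (2 * l + 1) = (m : OO c)⁻¹ * negI c := by rw [hO, inv_mul_cancel_left]
        rw [h3]
        exact mul_mem (inv_mem m.2) hz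
      rw [zpow_add, zpow_one, zpow_mul, zpow_two, hsq] at h1
      exact hzz ((mul_mem_cancel_left (zpow_mem s.h.2 l)).1 h1)
    obtain ⟨l, rfl⟩ := hev
    have hu2 : (s.u * s.u') * (s.u * s.u') = s.c0 * s.ψ s.h := by
      show _ = s.u * s.u' * s.u⁻¹ * s.u'⁻¹ * (s.ψ s.h)⁻¹ * s.ψ s.h
      rw [inv_mul_cancel_right, inv_eq_of_mul_eq_one_left s.uu, inv_eq_of_mul_eq_one_left s.uu', mul_assoc,
        mul_assoc, mul_assoc]
    have hcm : ∀ x : Om c, Commute s.c0 (s.ψ x) := fun x => (mem_centralizer_iff.1 hc.2 (s.ψ x) ⟨x, rfl⟩).symm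
    rw [← two_mul, zpow_mul, zpow_two, hu2, (hcm _).mul_zpow, ← mul_assoc, ← ((hcm m).zpow_left l).eq, mul_assoc,
      ← map_zpow, ← map_mul] at hG
    have hO' : (⟨negI c, hz⟩ : Om c) = m * s.h ^ l := by
      apply Subtype.ext
      show negI c = (m : OO c) * ((s.h ^ l : Om c) : OO c)
      rw [hO, ← two_mul, zpow_mul, zpow_two, hsq]
      rfl
    rw [← hO'] at hG
    refine ⟨-l, ?_⟩
    show s.c0 ^ (-l) = _
    rw [zpow_neg]
    exact (eq_inv_of_mul_eq_one_right hG.symm).symm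
  · exfalso
    have hO : negI c = (m : OO c) * ((s.z * s.z') ^ k * s.z) := by
      have h1 := congrArg (pr s) hk
      rw [map_mul, map_mul, map_zpow, map_mul] at h1
      exact h1
    let dt : OO c →* Fˣ := Matrix.GeneralLinearGroup.det.comp (isometryGroup F (dq c)).subtype
    have hdt : ∀ g : OO c, ((dt g : Fˣ) : F) = (mx g).det := fun g => rfl
    have h1 := congrArg dt hO
    rw [map_mul, map_mul, map_zpow, map_mul] at h1
    have hdm : dt (m : OO c) = 1 := Units.ext (by rw [hdt, O.det1 _ m.2]; rfl)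
    have hdz : dt s.z = -1 := Units.ext (by rw [hdt, s.dz]; rfl)
    have hdz' : dt s.z' = -1 := Units.ext (by rw [hdt, s.dz']; rfl)
    have hdn : dt (negI c) = 1 := Units.ext (by
      rw [hdt]
      show (-1 : Matrix (Fin n) (Fin n) F).det = 1
      rw [Matrix.det_neg, Matrix.det_one, mul_one, Fintype.card_fin, hn.neg_one_pow])
    rw [hdm, hdz, hdz', hdn, neg_mul_neg, one_mul, one_mul, one_zpow, one_mul] at h1
    have h3 := congrArg (Units.val) h1
    rw [Units.val_one, Units.val_neg, Units.val_one] at h3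
    exact h2 (by rw [← one_add_one_eq_two]; nth_rewrite 1 [h3]; ring)

end Gamma

end Cfsg.Agent.H111.OI.B23
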