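import Mathlib
import Cfsg.Agent.H111.OI.Gam

/-!
# S3325, piece PB23 (helper111)

`pB23` : `n` even, `M` a component, `O(G) = 1`: `t` is central.
-/

set_option autoImplicit false

namespace Cfsg.Agent.H111.OI.B23

open Cfsg Subgroup Cfsg.Agent.H323.OI Cfsg.Agent.H111.OI.Two

variable {F : Type} [Field F] {n : ℕ} {c : Fin n → F} {G : Type} [Group G]

section

variable (s : Cfg c G)

/-! ### the normalizer of `M` -/

/-- the automorphism of `Ω(U)` induced by an element of `N_G(M)` -/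
theorem exists_aut [Finite G] {g : G} (hg : ∀ m, g * s.ψ m * g⁻¹ ∈ s.ψ.range) :
    ∃ γ : MulAut (Om c), ∀ m, g * s.ψ m * g⁻¹ = s.ψ (γ m) := by
  have hfin := finite_Om s
  choose f hf using hg
  let φ : Om c →* Om c := MonoidHom.mk' f (by
    intro a b
    apply s.inj
    rw [hf, map_mul, map_mul, hf, hf]
    group)
  have hφ : Function.Injective φ := by
    intro a b hab
    apply s.inj
    have h1 : s.ψ (f a) = s.ψ (f b) := congrArg s.ψ hab
    rw [hf, hf] at h1
    exact mul_left_cancel (mul_right_cancel h1)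
  refine ⟨MulEquiv.ofBijective φ (Finite.injective_iff_bijective.1 hφ), fun m => ?_⟩
  exact (hf m).symm

variable (h2 : (2 : F) ≠ 0) (O : OmF c)

include h2 in
theorem ze_ne (hz : negI c ∈ Omega F (dq c)) : s.ψ ⟨negI c, hz⟩ ≠ 1 := by
  intro h
  rw [← map_one s.ψ] at h
  exact negI_ne h2 s (congrArg Subtype.val (s.inj h))

theorem ze_mul (hz : negI c ∈ Omega F (dq c)) : s.ψ ⟨negI c, hz⟩ * s.ψ ⟨negI c, hz⟩ = 1 := by
  rw [← map_mul, ← map_one s.ψ]
  exact congrArg s.ψ (Subtype.ext negI_mul)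

theorem ze_comm (hz : negI c ∈ Omega F (dq c)) (m : Om c) :
    s.ψ ⟨negI c, hz⟩ * s.ψ m = s.ψ m * s.ψ ⟨negI c, hz⟩ := by
  rw [← map_mul, ← map_mul]
  exact congrArg s.ψ (Subtype.ext (negI_comm (m : OO c)))

include h2 O in
/-- `ζ` is centralized by `N_G(M)` -/
theorem ze_conj [Finite G] (hz : negI c ∈ Omega F (dq c)) {g : G} (hg : ∀ m, g * s.ψ m * g⁻¹ ∈ s.ψ.range) :
    g * s.ψ ⟨negI c, hz⟩ * g⁻¹ = s.ψ ⟨negI c, hz⟩ := by
  obtain ⟨γ, hγ⟩ := exists_aut s hg
  rw [hγ]
  congr 1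
  set x := γ ⟨negI c, hz⟩ with hx
  have h1 : ∀ m : Om c, x * m = m * x := by
    intro m
    obtain ⟨m', rfl⟩ := γ.surjective m
    rw [hx, ← map_mul, ← map_mul]
    exact congrArg γ (Subtype.ext (negI_comm (m' : OO c)))
  rcases O.cen (x : OO c) (fun m hm => congrArg Subtype.val (h1 ⟨m, hm⟩)) with h3 | h3
  · exfalso
    have h4 : x = 1 := Subtype.ext h3
    rw [hx, map_eq_one_iff γ γ.injective] at h4
    exact negI_ne h2 s (congrArg Subtype.val h4)
  · exact Subtype.ext h3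

/-! ### the fusion lemma -/

include h2 O in
/-- **(NF)** `t` and `t ζ` are not conjugate in `N_G(M)`. -/
theorem nf [Finite G] (hn : Even n)
    (hext : ∀ γ : MulAut (Om c), ∃ Γ : MulAut (OO c), ∀ m : Om c, Γ m.1 = (γ m).1) (q : QF s)
    (hz : negI c ∈ Omega F (dq c)) (hne : s.t ≠ s.ψ ⟨negI c, hz⟩) {g : G} (hg : ∀ m, g * s.ψ m * g⁻¹ ∈ s.ψ.range) :
    g * s.t * g⁻¹ ≠ s.t * s.ψ ⟨negI c, hz⟩ := by
  intro hgt
  have hf1 := finite_OO s O
  set ze := s.ψ ⟨negI c, hz⟩ with hze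
  have hzz : ze * ze = 1 := ze_mul s hz
  obtain ⟨⟨i, j, hij⟩, hidx⟩ := q.III hz
  rw [← hze] at hij hidx
  have hzc : ze ∉ zpowers s.c0 := by
    intro h
    apply hne
    refine inv_unique (b := s.c0) ?_ h s.tt s.t1 hzz (ze_ne s h2 hz)
    rw [hij]
    exact mul_mem (pow_mem h i) (pow_mem (mem_zpowers _) j)
  -- the subgroup `⟨ζ, c₀⟩`
  have hzQ : ze ∈ s.Q := by
    refine ⟨mem_centralizer_singleton_iff.2 (s.fix _).symm, mem_centralizer_iff.2 ?_⟩
    rintro _ ⟨m, rfl⟩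
    exact (ze_comm s hz m).symm
  have hA : zpowers ze ⊔ zpowers s.c0 ≤ s.Q := sup_le (by rw [zpowers_le]; exact hzQ) (by
    rw [zpowers_le]; exact q.c0Q)
  have hzi : iQ s ⟨ze, hzQ⟩ = iM s ⟨negI c, hz⟩ * zt s := Subtype.ext (Prod.ext (by
    show ze = s.ψ ⟨negI c, hz⟩ * 1
    rw [mul_one]) (by
    show (1 : OO c) = negI c * negI c
    rw [negI_mul]))
  have hodd : Odd (D s ⊔ zpowers (zt s)).index := by
    refine odd_index s O q hA hidx fun x hx => ?_
    have h1 : zpowers ze ⊔ zpowers s.c0 ≤ ((D s ⊔ zpowers (zt s)).comap (iQ s)).map s.Q.subtype := by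
      refine sup_le ?_ ?_
      · rw [zpowers_le]
        refine ⟨⟨ze, hzQ⟩, ?_, rfl⟩
        show iQ s ⟨ze, hzQ⟩ ∈ D s ⊔ zpowers (zt s)
        rw [hzi]
        exact mul_mem (mem_sup_left (iM_mem s _)) (mem_sup_right (mem_zpowers _))
      · rw [zpowers_le]
        exact ⟨⟨s.c0, q.c0Q⟩, mem_sup_left (c0_mem s q.c0Q), rfl⟩
    obtain ⟨y, hy, hyx⟩ := h1 hx
    have h3 : y = ⟨x, hA hx⟩ := Subtype.ext hyx
    rw [← h3]
    exact hy
  -- the endomorphism of `Γ` induced by `g`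
  obtain ⟨γ, hγ⟩ := exists_aut s hg
  obtain ⟨Γ, hΓ⟩ := hext γ
  have hgz : g * ze * g⁻¹ = ze := ze_conj s h2 O hz hg
  let A : ↥(Gam s) →* ↥(Gam s) :=
    (((MulAut.conj g).toMonoidHom.prodMap Γ.toMonoidHom).comp (Gam s).subtype).codRestrict (Gam s) (by
      rintro ⟨⟨v, w⟩, hv, hvw⟩
      have hv' : v * s.t = s.t * v := hv
      have hvw' : ∀ m, v * s.ψ m * v⁻¹ = s.ψ (cj w m) := hvw
      refine ⟨?_, fun m => ?_⟩
      · show g * v * g⁻¹ * s.t = s.t * (g * v * g⁻¹)
        have h1 : v * ze = ze * v := by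
          have h3 := hvw' ⟨negI c, hz⟩
          have h4 : cj w (⟨negI c, hz⟩ : Om c) = ⟨negI c, hz⟩ := Subtype.ext (by
            rw [cj_val]
            show w * negI c * w⁻¹ = negI c
            rw [← negI_comm, mul_inv_cancel_right])
          rw [h4] at h3
          exact mul_inv_eq_iff_eq_mul.1 h3
        have h3 : s.t = g * (s.t * ze) * g⁻¹ := by
          calc s.t = (s.t * ze) * ze := by rw [mul_assoc, hzz, mul_one]
            _ = (g * s.t * g⁻¹) * (g * ze * g⁻¹) := by rw [hgt, hgz]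
            _ = _ := by group
        have h4 : Commute v (s.t * ze) := (show Commute v s.t from hv').mul_right h1
        rw [h3]
        calc g * v * g⁻¹ * (g * (s.t * ze) * g⁻¹) = g * (v * (s.t * ze)) * g⁻¹ := by group
          _ = g * ((s.t * ze) * v) * g⁻¹ := by rw [h4.eq]
          _ = g * (s.t * ze) * g⁻¹ * (g * v * g⁻¹) := by group
      · show g * v * g⁻¹ * s.ψ m * (g * v * g⁻¹)⁻¹ = s.ψ (cj (Γ w) m)
        obtain ⟨m', rfl⟩ := γ.surjective m
        have h1 : cj (Γ w) (γ m') = γ (cj w m') := Subtype.ext (by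
          rw [cj_val, ← hΓ, ← hΓ, cj_val, map_mul, map_mul, map_inv])
        rw [h1, ← hγ, ← hγ, ← hvw']
        group)
  have hAval : ∀ p : ↥(Gam s), (A p : G × OO c) = (g * (p : G × OO c).1 * g⁻¹, Γ (p : G × OO c).2) := fun _ => rfl
  -- commutators
  have hM : ∀ m, iM s m ∈ commutator ↥(Gam s) := by
    intro m
    have h1 : (commutator (Om c)).map (iM s) ≤ commutator ↥(Gam s) := by
      rw [_root_.commutator_def, _root_.commutator_def, map_commutator]
      exact commutator_mono le_top le_top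
    exact h1 ⟨m, by rw [O.qs.1.commutator_eq_top]; exact mem_top m, rfl⟩
  have hc0 : iQ s ⟨s.c0, q.c0Q⟩ ∈ commutator ↥(Gam s) := by
    have h : iQ s ⟨s.c0, q.c0Q⟩ = ub s * ub' s * (ub s)⁻¹ * (ub' s)⁻¹ * (iM s s.h)⁻¹ := by
      rw [comm_eq s q.c0Q, mul_inv_cancel_right]
    rw [h]
    exact mul_mem (commutator_mem_commutator (mem_top _) (mem_top _)) (inv_mem (hM _))
  have hAc : ∀ p ∈ commutator ↥(Gam s), A p ∈ commutator ↥(Gam s) := by
    intro p hp
    have h1 : (commutator ↥(Gam s)).map A ≤ commutator ↥(Gam s) := by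
      rw [_root_.commutator_def, map_commutator]
      exact commutator_mono le_top le_top
    exact h1 ⟨p, hp, rfl⟩
  have h0 : g * s.c0 ^ j * g⁻¹ = s.c0 ^ j * ze := by
    have h1 : s.c0 ^ j = (ze ^ i)⁻¹ * s.t := by rw [hij, inv_mul_cancel_left]
    have h3 : g * ze ^ i * g⁻¹ = ze ^ i := by rw [← conj_pow, hgz]
    rw [h1]
    calc g * ((ze ^ i)⁻¹ * s.t) * g⁻¹ = (g * ze ^ i * g⁻¹)⁻¹ * (g * s.t * g⁻¹) := by group
      _ = (ze ^ i)⁻¹ * (s.t * ze) := by rw [h3, hgt]
      _ = _ := by group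
  have hj : iQ s ⟨s.c0, q.c0Q⟩ ^ j ∈ commutator ↥(Gam s) := pow_mem hc0 j
  have hAj := hAc _ hj
  have hzi' : iQ s ⟨ze, hzQ⟩ ∈ commutator ↥(Gam s) := by
    have h1 : iQ s ⟨ze, hzQ⟩ = (iQ s ⟨s.c0, q.c0Q⟩ ^ j)⁻¹ * A (iQ s ⟨s.c0, q.c0Q⟩ ^ j) := by
      apply Subtype.ext
      rw [Subgroup.coe_mul, Subgroup.coe_inv, hAval]
      have h3 : ((iQ s ⟨s.c0, q.c0Q⟩ ^ j : ↥(Gam s)) : G × OO c) = (s.c0 ^ j, 1) := by
        rw [SubgroupClass.coe_pow]
        show (s.c0, (1 : OO c)) ^ j = _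
        rw [Prod.pow_mk, one_pow]
      rw [h3]
      show (ze, (1 : OO c)) = (s.c0 ^ j, 1)⁻¹ * (g * s.c0 ^ j * g⁻¹, Γ 1)
      rw [h0, map_one, Prod.inv_mk, Prod.mk_mul_mk, inv_mul_cancel_left, inv_one, one_mul]
    rw [h1]
    exact mul_mem (inv_mem hj) hAj
  have hzt : zt s ∈ commutator ↥(Gam s) := by
    have h1 : zt s = (iM s ⟨negI c, hz⟩)⁻¹ * iQ s ⟨ze, hzQ⟩ := by rw [hzi, inv_mul_cancel_left]
    rw [h1]
    exact mul_mem (inv_mem (hM _)) hzi'
  have hD := mem_of_mem_commutator (zt_comm s) (zt_mul s) (D s) hodd hzt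
  exact hzc (ze_of_mem s h2 hn O q.c0Q hz hD)

/-! ### the centralizer of `M` -/

/-- `t` as an element of `C(M)` -/
theorem t_mem : s.t ∈ centralizer (s.M : Set G) := by
  rw [mem_centralizer_iff]
  rintro _ ⟨m, rfl⟩
  exact (s.fix m).symm

theorem Q_le : s.Q ≤ centralizer (s.M : Set G) := inf_le_right

theorem centralizer_t (ht : s.t ∈ centralizer (s.M : Set G)) :
    centralizer {(⟨s.t, ht⟩ : ↥(centralizer (s.M : Set G)))} = s.Q.subgroupOf (centralizer (s.M : Set G)) := by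
  ext x
  rw [mem_centralizer_singleton_iff, mem_subgroupOf]
  constructor
  · intro h
    exact ⟨mem_centralizer_singleton_iff.2 (congrArg Subtype.val h), x.2⟩
  · intro h
    exact Subtype.ext (mem_centralizer_singleton_iff.1 h.1)

/-- a normal cyclic 2-group -/
theorem isCyclic_of_sylow {X : Type*} [Group X] [Finite X] {k : ℕ} (hk : Nat.card X = 2 ^ k)
    (h : ∀ S : Sylow 2 X, IsCyclic ↥(S : Subgroup X)) : IsCyclic X := by
  have hf : Fact (Nat.Prime 2) := ⟨Nat.prime_two⟩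
  have hp : IsPGroup 2 ↥(⊤ : Subgroup X) := IsPGroup.of_card (n := k) (by rw [card_top, hk])
  have h1 := h (hp.toSylow (by rw [index_top]; norm_num))
  have h3 : IsCyclic ↥(⊤ : Subgroup X) := h1
  exact isCyclic_of_surjective (topEquiv (G := X)).toMonoidHom (topEquiv (G := X)).surjective

include h2 O in
/-- the case II -/
theorem caseII [Finite G] (hn : Even n) (q : QF s) (hz : negI c ∉ Omega F (dq c)) (hO : oddCore G = ⊥)
    (hM : IsComponent s.M) (g : G) : g * s.t = s.t * g := by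
  have _ := h2
  have _ := O
  obtain ⟨b, hbQ, hbb, hodd⟩ := q.II hn hz
  obtain ⟨j, hj⟩ := q.tI hz
  have ht := t_mem s
  have hbR : b ∈ centralizer (s.M : Set G) := Q_le s hbQ
  set R := centralizer (s.M : Set G) with hR
  have htb : (⟨s.t, ht⟩ : ↥R) ∈ zpowers (⟨b, hbR⟩ : ↥R) := by
    refine ⟨((2 * j : ℕ) : ℤ), Subtype.ext ?_⟩
    show ((⟨b, hbR⟩ : ↥R) ^ ((2 * j : ℕ) : ℤ) : ↥R) = s.t
    rw [zpow_natCast, SubgroupClass.coe_pow, hj, ← hbb, ← pow_two, ← pow_mul]
  have hzb : zpowers (⟨b, hbR⟩ : ↥R) = (zpowers b).subgroupOf R := by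
    apply map_injective R.subtype_injective
    rw [map_subgroupOf_eq_of_le (by rw [zpowers_le]; exact hbR), MonoidHom.map_zpowers]
    rfl
  have hcyc : ∀ S : Sylow 2 ↥R, IsCyclic ↥(S : Subgroup ↥R) := by
    refine cyc_sylow (t := ⟨s.t, ht⟩) (b := ⟨b, hbR⟩) ?_ (Subtype.ext s.tt) htb ?_
    · exact fun h => s.t1 (congrArg Subtype.val h)
    · rw [centralizer_t s ht, hzb, relIndex_subgroupOf (Q_le s)]
      exact hodd
  obtain ⟨hMn, k, hk⟩ := comp_normal hO hM (nil_cyc hcyc)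
  have hRn : R.Normal := by rw [hR]; infer_instance
  have hRc : IsCyclic ↥R := isCyclic_of_sylow hk hcyc
  obtain ⟨r, hr⟩ := hRc.exists_generator
  have h3 : g * s.t * g⁻¹ ∈ R := hRn.conj_mem _ ht g
  have h4 : (⟨g * s.t * g⁻¹, h3⟩ : ↥R) = ⟨s.t, ht⟩ := by
    refine inv_unique (hr _) (hr _) (Subtype.ext ?_) ?_ (Subtype.ext s.tt) (fun h => s.t1 (congrArg Subtype.val h))
    · show g * s.t * g⁻¹ * (g * s.t * g⁻¹) = 1
      calc g * s.t * g⁻¹ * (g * s.t * g⁻¹) = g * (s.t * s.t) * g⁻¹ := by group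
        _ = 1 := by rw [s.tt]; group
    · intro h
      exact s.t1 (conj_eq_one_iff.1 (congrArg Subtype.val h))
  exact mul_inv_eq_iff_eq_mul.1 (congrArg Subtype.val h4)

theorem mem_zpowers_inv {X : Type*} [Group X] {z x : X} (hz : z * z = 1) (hx : x ∈ zpowers z) : x = 1 ∨ x = z := by
  obtain ⟨i, rfl⟩ := mem_zpowers_iff.1 hx
  rcases Int.even_or_odd' i with ⟨l, rfl | rfl⟩
  · left
    rw [zpow_mul, zpow_two, hz, one_zpow]
  · right
    rw [zpow_add, zpow_mul, zpow_two, hz, one_zpow, one_mul, zpow_one]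

include h2 O in
/-- the case III -/
theorem caseIII [Finite G] (hn : Even n)
    (hext : ∀ γ : MulAut (Om c), ∃ Γ : MulAut (OO c), ∀ m : Om c, Γ m.1 = (γ m).1) (q : QF s)
    (hz : negI c ∈ Omega F (dq c)) (hO : oddCore G = ⊥) (hM : IsComponent s.M) (g : G) :
    g * s.t = s.t * g := by
  obtain ⟨⟨i, j, hij⟩, hidx⟩ := q.III hz
  have hzz := ze_mul s hz
  have hz1 := ze_ne s h2 hz
  have hzconj : ∀ g : G, (∀ m, g * s.ψ m * g⁻¹ ∈ s.ψ.range) → g * s.ψ ⟨negI c, hz⟩ * g⁻¹ = s.ψ ⟨negI c, hz⟩ :=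
    fun g hg => ze_conj s h2 O hz hg
  have hnf := fun (hne : s.t ≠ s.ψ ⟨negI c, hz⟩) (g : G) (hg : ∀ m, g * s.ψ m * g⁻¹ ∈ s.ψ.range) =>
    nf s h2 O hn hext q hz hne hg
  have hzM : s.ψ ⟨negI c, hz⟩ ∈ centralizer (s.M : Set G) := by
    rw [mem_centralizer_iff]
    rintro _ ⟨m, rfl⟩
    exact (ze_comm s hz m).symm
  set ze := s.ψ ⟨negI c, hz⟩ with hze
  have ht := t_mem s
  have hc0R : s.c0 ∈ centralizer (s.M : Set G) := Q_le s q.c0Q
  have hRconj : ∀ x ∈ centralizer (s.M : Set G), ∀ m, x * s.ψ m * x⁻¹ ∈ s.ψ.range := fun x hx m =>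
    ⟨m, by rw [← mem_centralizer_iff.1 hx (s.ψ m) ⟨m, rfl⟩, mul_inv_cancel_right]⟩
  have hQR := Q_le s
  set R := centralizer (s.M : Set G) with hR
  let zR : ↥R := ⟨ze, hzM⟩
  let tR : ↥R := ⟨s.t, ht⟩
  let cR : ↥R := ⟨s.c0, hc0R⟩
  have hzR : ∀ x : ↥R, x * zR = zR * x := fun x => Subtype.ext
    (mem_centralizer_iff.1 x.2 ze ⟨⟨negI c, hz⟩, rfl⟩).symm
  have hZc : zpowers zR ≤ center ↥R := by
    rw [zpowers_le, mem_center_iff]
    exact hzR
  have hZn : (zpowers zR).Normal := by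
    constructor
    intro x hx y
    have h1 := mem_center_iff.1 (hZc hx) y
    rw [h1, mul_inv_cancel_right]
    exact hx
  have hZcard : Nat.card ↥(zpowers zR) = 2 ^ 1 := by
    rw [Nat.card_zpowers, pow_one]
    exact orderOf_eq_prime (Subtype.ext (by
      show ze ^ 2 = 1
      rw [pow_two, hzz])) (fun h => hz1 (congrArg Subtype.val h))
  have hker : (QuotientGroup.mk' (zpowers zR)).ker = zpowers zR := QuotientGroup.ker_mk' _
  -- the image of `⟨ζ, c₀⟩`
  have hA : zpowers ze ⊔ zpowers s.c0 ≤ R := sup_le (by rw [zpowers_le]; exact hzM) (by rw [zpowers_le]; exact hc0R)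
  have hAeq : (zpowers ze ⊔ zpowers s.c0).subgroupOf R = zpowers zR ⊔ zpowers cR := by
    apply map_injective R.subtype_injective
    rw [map_subgroupOf_eq_of_le hA, Subgroup.map_sup, MonoidHom.map_zpowers, MonoidHom.map_zpowers]
    rfl
  have hAmap : ((zpowers ze ⊔ zpowers s.c0).subgroupOf R).map (QuotientGroup.mk' (zpowers zR)) =
      zpowers (QuotientGroup.mk' (zpowers zR) cR) := by
    rw [hAeq, Subgroup.map_sup, (Subgroup.map_eq_bot_iff _).2 hker.ge, bot_sup_eq, MonoidHom.map_zpowers]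
  have hzA : zpowers zR ≤ (zpowers ze ⊔ zpowers s.c0).subgroupOf R := by
    rw [hAeq]
    exact le_sup_left
  have hzQ : zpowers zR ≤ s.Q.subgroupOf R := by
    rw [zpowers_le, mem_subgroupOf]
    refine ⟨mem_centralizer_singleton_iff.2 (s.fix _).symm, hzM⟩
  -- Sylow 2-subgroups of `R / ⟨ζ⟩`
  have hcyc : ∀ S : Sylow 2 (↥R ⧸ zpowers zR), IsCyclic ↥(S : Subgroup (↥R ⧸ zpowers zR)) := by
    by_cases hne : s.t = ze
    · refine cyc_of_index (b := QuotientGroup.mk' (zpowers zR) cR) ?_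
      have hQ : s.Q = R := by
        refine le_antisymm hQR ?_
        intro x hx
        refine ⟨mem_centralizer_singleton_iff.2 ?_, hx⟩
        rw [hne]
        exact (mem_centralizer_iff.1 hx ze ⟨⟨negI c, hz⟩, rfl⟩).symm
      rw [← hAmap, index_map, hker, sup_eq_left.2 hzA,
        MonoidHom.range_eq_top.2 (QuotientGroup.mk'_surjective (zpowers zR)), index_top, mul_one]
      rw [hQ] at hidx
      exact hidx
    · refine cyc_sylow (t := QuotientGroup.mk' (zpowers zR) tR) (b := QuotientGroup.mk' (zpowers zR) cR) ?_ ?_ ?_ ?_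
      · intro h
        rw [← MonoidHom.mem_ker, hker] at h
        rcases mem_zpowers_inv (Subtype.ext hzz) h with h3 | h3
        · exact s.t1 (congrArg Subtype.val h3)
        · exact hne (congrArg Subtype.val h3)
      · rw [← map_mul, ← map_one (QuotientGroup.mk' (zpowers zR))]
        exact congrArg _ (Subtype.ext s.tt)
      · rw [← hAmap]
        refine ⟨tR, ?_, rfl⟩
        rw [hAeq]
        have h3 : tR = zR ^ i * cR ^ j := Subtype.ext hij
        rw [h3]
        exact mul_mem (mem_sup_left (pow_mem (mem_zpowers _) i)) (mem_sup_right (pow_mem (mem_zpowers _) j))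
      · have hcent : centralizer {QuotientGroup.mk' (zpowers zR) tR} =
            (s.Q.subgroupOf R).map (QuotientGroup.mk' (zpowers zR)) := by
          ext x
          obtain ⟨y, rfl⟩ := QuotientGroup.mk'_surjective _ x
          rw [mem_centralizer_singleton_iff]
          constructor
          · intro h
            refine ⟨y, ?_, rfl⟩
            have h3 : y * tR * y⁻¹ * tR⁻¹ ∈ zpowers zR := by
              rw [← hker, MonoidHom.mem_ker, map_mul, map_mul, map_mul, map_inv, map_inv, h]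
              group
            refine mem_subgroupOf.2 ⟨mem_centralizer_singleton_iff.2 ?_, y.2⟩
            rcases mem_zpowers_inv (Subtype.ext hzz) h3 with h4 | h4
            · have h5 : (y : G) * s.t * (y : G)⁻¹ * s.t⁻¹ = 1 := congrArg Subtype.val h4
              rw [mul_inv_eq_one, mul_inv_eq_iff_eq_mul] at h5
              exact h5
            · exfalso
              have h5 : (y : G) * s.t * (y : G)⁻¹ * s.t⁻¹ = ze := congrArg Subtype.val h4
              have h6 : (y : G) * s.t * (y : G)⁻¹ = s.t * ze := by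
                rw [mul_inv_eq_iff_eq_mul] at h5
                rw [h5]
                exact (s.fix _).symm
              exact hnf hne y (hRconj y y.2) h6
          · rintro ⟨w, hw, hwy⟩
            rw [← hwy, ← map_mul, ← map_mul]
            exact congrArg _ (Subtype.ext (mem_centralizer_singleton_iff.1 (mem_subgroupOf.1 hw).1))
        rw [hcent, ← hAmap, relIndex_map_map, hker, sup_eq_left.2 hzA, sup_eq_left.2 hzQ, relIndex_subgroupOf hQR]
        exact hidx
  obtain ⟨hMn, k, hk⟩ := comp_normal hO hM (nil_central hZc hZcard (nil_cyc hcyc))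
  have hgM : ∀ m, g * s.ψ m * g⁻¹ ∈ s.ψ.range := fun m => hMn.conj_mem _ ⟨m, rfl⟩ g
  have hgz := hzconj g hgM
  by_cases hne : s.t = ze
  · rw [hne]
    exact mul_inv_eq_iff_eq_mul.1 hgz
  · have hRn : R.Normal := by rw [hR]; infer_instance
    have hXk : ∃ l, Nat.card (↥R ⧸ zpowers zR) = 2 ^ l := by
      have h3 : Nat.card (↥R ⧸ zpowers zR) ∣ 2 ^ k := by
        rw [← hk]
        exact card_quotient_dvd_card _
      obtain ⟨l, -, hl⟩ := (Nat.dvd_prime_pow Nat.prime_two).1 h3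
      exact ⟨l, hl⟩
    obtain ⟨l, hl⟩ := hXk
    have hXc := isCyclic_of_sylow hl hcyc
    obtain ⟨r, hr⟩ := hXc.exists_generator
    have h3 : g * s.t * g⁻¹ ∈ R := hRn.conj_mem _ ht g
    have hgt2 : g * s.t * g⁻¹ * (g * s.t * g⁻¹) = 1 := by
      calc g * s.t * g⁻¹ * (g * s.t * g⁻¹) = g * (s.t * s.t) * g⁻¹ := by group
        _ = 1 := by rw [s.tt]; group
    have h4 : QuotientGroup.mk' (zpowers zR) (⟨g * s.t * g⁻¹, h3⟩ : ↥R) = QuotientGroup.mk' (zpowers zR) tR := by
      refine inv_unique (hr _) (hr _) ?_ ?_ ?_ ?_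
      · rw [← map_mul, ← map_one (QuotientGroup.mk' (zpowers zR))]
        exact congrArg _ (Subtype.ext hgt2)
      · intro h
        rw [← MonoidHom.mem_ker, hker] at h
        rcases mem_zpowers_inv (Subtype.ext hzz) h with h5 | h5
        · exact s.t1 (conj_eq_one_iff.1 (congrArg Subtype.val h5))
        · have h6 : g * s.t * g⁻¹ = ze := congrArg Subtype.val h5
          rw [← hgz] at h6
          exact hne (mul_left_cancel (mul_right_cancel h6))
      · rw [← map_mul, ← map_one (QuotientGroup.mk' (zpowers zR))]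
        exact congrArg _ (Subtype.ext s.tt)
      · intro h
        rw [← MonoidHom.mem_ker, hker] at h
        rcases mem_zpowers_inv (Subtype.ext hzz) h with h5 | h5
        · exact s.t1 (congrArg Subtype.val h5)
        · exact hne (congrArg Subtype.val h5)
    have h5 : tR⁻¹ * (⟨g * s.t * g⁻¹, h3⟩ : ↥R) ∈ zpowers zR := QuotientGroup.eq.1 h4.symm
    rcases mem_zpowers_inv (Subtype.ext hzz) h5 with h6 | h6
    · have h7 : s.t⁻¹ * (g * s.t * g⁻¹) = 1 := congrArg Subtype.val h6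
      rw [inv_mul_eq_one] at h7
      exact mul_inv_eq_iff_eq_mul.1 h7.symm
    · exfalso
      have h7 : s.t⁻¹ * (g * s.t * g⁻¹) = ze := congrArg Subtype.val h6
      rw [inv_mul_eq_iff_eq_mul] at h7
      exact hnf hne g hgM h7

end

/-- **Piece 6 of S3325.** -/
theorem pB23 : PB23 := by
  intro F _ n c O h2 hn hext G _ _ s q hO hM g
  by_cases hz : negI c ∈ Omega F (dq c)
  · exact caseIII s h2 O hn hext q hz hO hM g
  · exact caseII s h2 O hn q hz hO hM g

end Cfsg.Agent.H111.OI.B23
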